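import Groth.Agent.An92.Gor.FibreStalk
import Groth.Agent.FBase64.Chart
import Groth.Agent.FlatMor66.BCStalk
import Groth.Agent.Gor18.Fibre
import Groth.Agent.Gor18.FieldExt
import Groth.Agent.S1803
import Groth.Agent.Desc59.EtaleDim
import Mathlib.AlgebraicGeometry.Morphisms.FiniteType

/-! Gorenstein local rings and extensions of the base field; base change of Gorenstein morphisms. -/

set_option autoImplicit false
set_option linter.style.haveILetI false

universe u

open CategoryTheory CategoryTheory.Limits AlgebraicGeometry IsLocalRing TensorProduct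

namespace Groth.Agent.An92.Gor

/-- Gorenstein localisations along a finitely generated field extension. -/
theorem gor_tensor_atPrime_iff {k K A : Type u} [Field k] [Field K] [Algebra k K] [Algebra.EssFiniteType k K]
    [CommRing A] [Algebra k A] [IsNoetherianRing A] (q : Ideal (A ⊗[k] K)) [q.IsPrime] :
    LocCoh.IsGorensteinLocalRing (Localization.AtPrime (q.comap (algebraMap A (A ⊗[k] K)))) ↔
      LocCoh.IsGorensteinLocalRing (Localization.AtPrime q) := by
  haveI : IsNoetherianRing (A ⊗[k] K) := Algebra.EssFiniteType.isNoetherianRing A _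
  constructor
  · intro h
    refine Gor18.gor_atPrime_of_fibre q h ?_
    let p := q.under A
    haveI := Gor18.gorRing_of_pid p.ResidueField
    have hfg : ∃ s : Finset K, IntermediateField.adjoin k (s : Set K) = ⊤ :=
      IntermediateField.fg_top_iff.2 inferInstance
    haveI := Gor18.gorRing_tensor_fg k K p.ResidueField hfg
    haveI := Gor18.gorRing_of_ringEquiv (Algebra.TensorProduct.comm k K p.ResidueField).toRingEquiv
    exact Gor18.gorRing_of_ringEquiv (Algebra.TensorProduct.cancelBaseChange k A A
      p.ResidueField K).toRingEquiv.symm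
  · exact fun h => Gor18.gor_base_of_flat (R := A) q h

variable {X : Scheme.{u}} {k K : Type u} [Field k] [Field K] [Algebra k K]

/-- A chart of an extension of the base field at a point. -/
theorem exists_chart_bc' (f : X ⟶ Spec (CommRingCat.of k))
    (x' : ↥(pullback f (Spec.map (CommRingCat.ofHom (algebraMap k K))))) :
    ∃ (A : Type u) (_ : CommRing A) (_ : Algebra k A) (j : Spec (CommRingCat.of A) ⟶ X) (_ : IsOpenImmersion j)
      (_ : j ≫ f = Spec.map (CommRingCat.ofHom (algebraMap k A))) (R : PrimeSpectrum (A ⊗[k] K)),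
      Nonempty ((pullback f (Spec.map (CommRingCat.ofHom (algebraMap k K)))).presheaf.stalk x' ≃+*
        Localization.AtPrime R.asIdeal) ∧
      Nonempty (X.presheaf.stalk (pullback.fst f (Spec.map (CommRingCat.ofHom (algebraMap k K))) x') ≃+*
        Localization.AtPrime (R.asIdeal.comap (algebraMap A (A ⊗[k] K)))) := by
  let tK := Spec.map (CommRingCat.ofHom (algebraMap k K))
  obtain ⟨A, _, _, j, hji, hx, hj⟩ := FBase64.exists_chart f (pullback.fst f tK x')
  have hmem : x' ∈ Set.range (FBase64.prodChart f tK j (𝟙 _) hj (Category.id_comp _)) := by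
    rw [FBase64.range_prodChart]
    exact ⟨hx, ⟨_, rfl⟩⟩
  obtain ⟨R, rfl⟩ := hmem
  refine ⟨A, inferInstance, inferInstance, j, hji, hj, R, FBase64.nonempty_stalkEquiv _ R, ?_⟩
  rw [← Scheme.Hom.comp_apply, FBase64.prodChart_fst, Scheme.Hom.comp_apply]
  exact FBase64.nonempty_stalkEquiv j _

theorem gor_stalk_bc_iff_of_fg [IsLocallyNoetherian X] [Algebra.EssFiniteType k K] (f : X ⟶ Spec (CommRingCat.of k))
    (x' : ↥(pullback f (Spec.map (CommRingCat.ofHom (algebraMap k K))))) :
    LocCoh.IsGorensteinLocalRing (X.presheaf.stalk (pullback.fst f (Spec.map (CommRingCat.ofHom (algebraMap k K))) x')) ↔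
      LocCoh.IsGorensteinLocalRing
        ((pullback f (Spec.map (CommRingCat.ofHom (algebraMap k K)))).presheaf.stalk x') := by
  obtain ⟨A, _, _, j, hji, hj, R, ⟨e⟩, ⟨e'⟩⟩ := exists_chart_bc' f x'
  haveI : IsLocallyNoetherian (Spec (CommRingCat.of A)) := isLocallyNoetherian_of_isOpenImmersion j
  haveI : IsNoetherianRing A := (isLocallyNoetherian_Spec (R := CommRingCat.of A)).1 inferInstance
  rw [Gor18.gor_congr e', Gor18.gor_congr e]
  exact gor_tensor_atPrime_iff R.asIdeal

theorem gor_stalk_bc_iff_of_lft (f : X ⟶ Spec (CommRingCat.of k)) [LocallyOfFiniteType f]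
    (x' : ↥(pullback f (Spec.map (CommRingCat.ofHom (algebraMap k K))))) :
    LocCoh.IsGorensteinLocalRing (X.presheaf.stalk (pullback.fst f (Spec.map (CommRingCat.ofHom (algebraMap k K))) x')) ↔
      LocCoh.IsGorensteinLocalRing
        ((pullback f (Spec.map (CommRingCat.ofHom (algebraMap k K)))).presheaf.stalk x') := by
  obtain ⟨A, _, _, j, hji, hj, R, ⟨e⟩, ⟨e'⟩⟩ := exists_chart_bc' f x'
  haveI : LocallyOfFiniteType (Spec.map (CommRingCat.ofHom (algebraMap k A))) := hj ▸ inferInstance
  haveI : Algebra.FiniteType k A := RingHom.finiteType_algebraMap.1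
    ((HasRingHomProperty.Spec_iff (P := @LocallyOfFiniteType)).1 ‹_›)
  rw [Gor18.gor_congr e', Gor18.gor_congr e]
  exact S1803.result k K A R

/-- Local rings of fibres as quotients of the local rings of the source. -/
theorem gor_fiber_iff {X S : Scheme.{u}} (f : X ⟶ S) {s : S} (w : ↥(f.fiber s)) {x : X} (hw : f.fiberι s w = x) :
    LocCoh.IsGorensteinLocalRing ((f.fiber s).presheaf.stalk w) ↔ LocCoh.IsGorensteinLocalRing
      (X.presheaf.stalk x ⧸ (maximalIdeal (S.presheaf.stalk (f x))).map (f.stalkMap x).hom) := by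
  subst hw
  exact (Gor18.gor_congr (FlatMor68.FibreStalk.fibreStalkEquiv f s w)).symm

variable {Y X' Y' : Scheme.{u}} {f : X ⟶ Y} {g : Y' ⟶ Y} {f' : X' ⟶ Y'} {g' : X' ⟶ X}

/-- The fibres of a base change are extensions of the residue fields of the fibres. -/
theorem gor_fibre_baseChange_iff (hc : IsPullback g' f' f g) (x' : X')
    (H : ∀ (y' : Y') (w : ↥(pullback (f.fiberToSpecResidueField (g y')) (Spec.map (g.residueFieldMap y')))),
      LocCoh.IsGorensteinLocalRing ((f.fiber (g y')).presheaf.stalk
          (pullback.fst (f.fiberToSpecResidueField (g y')) (Spec.map (g.residueFieldMap y')) w)) ↔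
        LocCoh.IsGorensteinLocalRing
          ((pullback (f.fiberToSpecResidueField (g y')) (Spec.map (g.residueFieldMap y'))).presheaf.stalk w)) :
    LocCoh.IsGorensteinLocalRing
        (X.presheaf.stalk (g' x') ⧸ (maximalIdeal (Y.presheaf.stalk (f (g' x')))).map (f.stalkMap (g' x')).hom) ↔
      LocCoh.IsGorensteinLocalRing
        (X'.presheaf.stalk x' ⧸ (maximalIdeal (Y'.presheaf.stalk (f' x'))).map (f'.stalkMap x').hom) := by
  let y' := f' x'
  let q := Spec.map (g.residueFieldMap y')
  have hq : q ≫ Y.fromSpecResidueField (g y') = Y'.fromSpecResidueField y' ≫ g :=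
    Scheme.Hom.SpecMap_residueFieldMap_fromSpecResidueField g y'
  let m : f'.fiber y' ⟶ f.fiber (g y') :=
    pullback.lift (f'.fiberι y' ≫ g') (f'.fiberToSpecResidueField y' ≫ q) (by
      rw [Category.assoc, hc.w, Category.assoc, hq, ← Category.assoc, ← Category.assoc]
      congr 1
      exact pullback.condition)
  have hmι : m ≫ f.fiberι (g y') = f'.fiberι y' ≫ g' := pullback.lift_fst _ _ _
  have hm : IsPullback m (f'.fiberToSpecResidueField y') (f.fiberToSpecResidueField (g y')) q := by
    refine IsPullback.of_right ?_ (pullback.lift_snd _ _ _)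
      (IsPullback.of_hasPullback f (Y.fromSpecResidueField (g y')))
    have h2 := (IsPullback.of_hasPullback f' (Y'.fromSpecResidueField y')).paste_horiz hc
    rw [← hq] at h2
    exact hmι.symm ▸ h2
  let z := f'.asFiber x'
  have hz : f.fiberι (g y') (m z) = g' x' := by
    rw [← Scheme.Hom.comp_apply, hmι, Scheme.Hom.comp_apply, f'.fiberι_asFiber]
  rw [← gor_fiber_iff f (m z) hz, ← gor_fiber_iff f' z (f'.fiberι_asFiber x')]
  let e := hm.isoPullback
  have hw : pullback.fst (f.fiberToSpecResidueField (g y')) q (e.hom z) = m z := by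
    exact (Scheme.Hom.comp_apply _ _ _).symm.trans
      (congrArg (fun k : f'.fiber y' ⟶ f.fiber (g y') => k z) hm.isoPullback_hom_fst)
  rw [← hw]
  exact (H y' (e.hom z)).trans (Gor18.gor_congr (asIso (e.hom.stalkMap z)).commRingCatIsoToRingEquiv)

/-- Gorenstein morphisms and base change of finite type. -/
theorem gorAt_baseChange (hc : IsPullback g' f' f g) [∀ y, IsLocallyNoetherian (f.fiber y)]
    [LocallyOfFiniteType g] (x' : X') :
    (Dual3.IsGorensteinAt f (g' x') → Dual3.IsGorensteinAt f' x') ∧
      ((f.stalkMap (g' x')).hom.Flat → Dual3.IsGorensteinAt f' x' → Dual3.IsGorensteinAt f (g' x')) ∧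
      ((g.stalkMap (f' x')).hom.Flat → Dual3.IsGorensteinAt f' x' → Dual3.IsGorensteinAt f (g' x')) := by
  have key := gor_fibre_baseChange_iff hc x' fun y' w => by
    letI := (g.residueFieldMap y').hom.toAlgebra
    haveI : Algebra.EssFiniteType (Y.residueField (g y')) (Y'.residueField y') := by
      exact (RingHom.essFiniteType_algebraMap).1 (Desc59.EtaleDim.essFiniteType_residueFieldMap g y')
    exact gor_stalk_bc_iff_of_fg (k := Y.residueField (g y')) (K := Y'.residueField y') _ w
  rw [gorAt_iff, gorAt_iff]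
  refine ⟨fun ⟨hf, h⟩ => ⟨FlatMor66.flat_stalkMap_fst hc.flip x' hf, key.1 h⟩,
    fun hf ⟨_, h⟩ => ⟨hf, key.2 h⟩, fun hg ⟨hf', h⟩ => ⟨?_, key.2 h⟩⟩
  have h1 : ((f' ≫ g).stalkMap x').hom.Flat := by
    rw [flat_stalkMap_comp_iff]
    exact RingHom.Flat.comp hg hf'
  rw [← hc.w, flat_stalkMap_comp_iff] at h1
  exact flat_of_comp_local _ _ (FlatMor66.flat_stalkMap_fst hc x' hg) h1

/-- The Gorenstein locus of a flat morphism of finite type commutes with base change. -/
theorem gorAt_baseChange_iff (hc : IsPullback g' f' f g) [Flat f] [LocallyOfFiniteType f] (x' : X') :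
    Dual3.IsGorensteinAt f' x' ↔ Dual3.IsGorensteinAt f (g' x') := by
  have key := gor_fibre_baseChange_iff hc x' fun y' w => by
    letI := (g.residueFieldMap y').hom.toAlgebra
    haveI : LocallyOfFiniteType (f.fiberToSpecResidueField (g y')) :=
      inferInstanceAs (LocallyOfFiniteType (pullback.snd f (Y.fromSpecResidueField (g y'))))
    exact gor_stalk_bc_iff_of_lft (k := Y.residueField (g y')) (K := Y'.residueField y') _ w
  haveI : Flat f' := MorphismProperty.of_isPullback hc inferInstance
  rw [gorAt_iff, gorAt_iff]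
  exact ⟨fun h => ⟨Flat.stalkMap f _, key.2 h.2⟩, fun h => ⟨Flat.stalkMap f' _, key.1 h.2⟩⟩

end Groth.Agent.An92.Gor
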