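import Groth.Prelude.Def_Dual3
import Groth.Agent.Gor18.Local
import Groth.Agent.Gor18.Flat
import Groth.Agent.Gor18.LCIRing
import Groth.Agent.Div89.Basic

/-! Gorenstein schemes, affine-locally. -/

set_option autoImplicit false
set_option linter.style.haveILetI false

universe u

open CategoryTheory AlgebraicGeometry IsLocalRing
open Groth.Agent.Div89

namespace Groth.Agent.An92.Gor

variable {X : Scheme.{u}}

/-- The coordinate ring of an affine open of a Gorenstein scheme is Gorenstein. -/
theorem gorRing_of_isGorenstein (hX : Dual3.IsGorenstein X) (U : X.affineOpens) :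
    LocCoh.IsGorensteinRing Γ(X, U.1) := by
  haveI := hX.1
  haveI : IsNoetherianRing Γ(X, U.1) := IsLocallyNoetherian.component_noetherian U
  refine { isGorensteinLocalRing_localization := fun p hp => ?_ }
  obtain ⟨x, hx, rfl⟩ := exists_point U p
  letI := stalkAlg U.1 x hx
  haveI := isLocalization_stalk U x hx
  haveI := hX.2 x
  exact Gor18.gor_of_ringEquiv (IsLocalization.algEquiv (primeAt U x hx).primeCompl
    (X.presheaf.stalk x) (Localization.AtPrime (primeAt U x hx))).toRingEquiv

/-- Being Gorenstein is checked on an affine cover. -/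
theorem isGorenstein_of_cover
    (h : ∀ x : X, ∃ U : X.affineOpens, x ∈ U.1 ∧ LocCoh.IsGorensteinRing Γ(X, U.1)) :
    Dual3.IsGorenstein X := by
  choose U hxU hU using h
  have hsup : (⨆ x, (U x).1 : X.Opens) = ⊤ :=
    top_le_iff.1 fun x _ => TopologicalSpace.Opens.mem_iSup.2 ⟨x, hxU x⟩
  refine ⟨isLocallyNoetherian_of_affine_cover hsup fun x => by haveI := hU x; infer_instance, fun x => ?_⟩
  haveI := hU x
  letI := stalkAlg (U x).1 x (hxU x)
  haveI := isLocalization_stalk (U x) x (hxU x)
  exact Gor18.gor_atPrime (primeAt (U x) x (hxU x)) (X.presheaf.stalk x)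

end Groth.Agent.An92.Gor
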