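import Groth.Agent.An92.Gor.Basic
import Groth.Agent.FlatMor68.FibreStalk
import Groth.Agent.Cyc90.LimitPts
import Groth.Agent.CAlg9.Node.Fibral
import Mathlib.RingTheory.Ideal.Quotient.Operations
import Mathlib.RingTheory.Flat.FaithfullyFlat.Algebra

/-! Gorenstein morphisms at a point, via local rings of the source, and composition. -/

set_option autoImplicit false
set_option linter.style.haveILetI false

universe u

open CategoryTheory AlgebraicGeometry IsLocalRing TensorProduct

namespace Groth.Agent.An92.Gor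

/-- Flatness descends to the first map along a faithfully flat second map. -/
theorem flat_left_of_faithfullyFlat {R S M : Type u} [CommRing R] [CommRing S] [Algebra R S]
    [AddCommGroup M] [Module S M] [Module R M] [IsScalarTower R S M] [Module.Flat R M]
    [Module.FaithfullyFlat S M] : Module.Flat R S := by
  rw [Module.Flat.iff_lTensor_preserves_injective_linearMap]
  intro P Q _ _ _ _ v hv
  let w : S ⊗[R] P →ₗ[S] S ⊗[R] Q := AlgebraTensorModule.lTensor S S v
  show Function.Injective w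
  refine (Module.FaithfullyFlat.lTensor_injective_iff_injective S M w).mp ?_
  let eP : M ⊗[S] (S ⊗[R] P) ≃ₗ[S] M ⊗[R] P := AlgebraTensorModule.cancelBaseChange R S S M P
  let eQ : M ⊗[S] (S ⊗[R] Q) ≃ₗ[S] M ⊗[R] Q := AlgebraTensorModule.cancelBaseChange R S S M Q
  have key : ∀ t, eQ (w.lTensor M t) = v.lTensor M (eP t) := by
    intro t
    induction t using TensorProduct.induction_on with
    | zero => simp
    | add x y hx hy => simp only [map_add, hx, hy]
    | tmul m x =>
      induction x using TensorProduct.induction_on with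
      | zero => simp
      | add a b ha hb => simp only [tmul_add, map_add, ha, hb]
      | tmul a b => simp [eP, eQ, w]
  intro x y hxy
  apply eP.injective
  apply Module.Flat.lTensor_preserves_injective_linearMap (M := M) v hv
  rw [← key, ← key, hxy]

/-- A local flat map can be cancelled from a flat composite. -/
theorem flat_of_comp_local {R S M : Type u} [CommRing R] [CommRing S] [IsLocalRing S] [CommRing M] [IsLocalRing M]
    (φ : R →+* S) (ψ : S →+* M) [IsLocalHom ψ] (hψ : ψ.Flat) (h : (ψ.comp φ).Flat) : φ.Flat := by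
  algebraize [φ, ψ, ψ.comp φ]
  haveI : IsLocalHom (algebraMap S M) := ‹IsLocalHom ψ›
  haveI : Module.Flat S M := hψ
  haveI : Module.Flat R M := h
  haveI : Module.FaithfullyFlat S M := Module.FaithfullyFlat.of_flat_of_isLocalHom
  haveI : IsScalarTower R S M := IsScalarTower.of_algebraMap_eq' rfl
  exact flat_left_of_faithfullyFlat (M := M)

/-- The quotient form of the flat local criterion for the Gorenstein property. -/
theorem gor_quotient_flat_iff {R S : Type u} [CommRing R] [CommRing S] [IsLocalRing R] [IsLocalRing S]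
    (φ : R →+* S) [IsLocalHom φ] (hφ : φ.Flat) (I : Ideal R) (hI : I ≤ maximalIdeal R)
    [IsNoetherianRing (R ⧸ I)] [IsNoetherianRing (S ⧸ I.map φ)] :
    LocCoh.IsGorensteinLocalRing (S ⧸ I.map φ) ↔ LocCoh.IsGorensteinLocalRing (R ⧸ I) ∧
      LocCoh.IsGorensteinLocalRing (S ⧸ (maximalIdeal R).map φ) := by
  have hIS : I.map φ ≤ maximalIdeal S :=
    (Ideal.map_mono hI).trans (Ideal.map_le_iff_le_comap.2 (maximalIdeal_comap φ).ge)
  have hIS' : I.map φ ≤ (maximalIdeal R).map φ := Ideal.map_mono hI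
  haveI : Nontrivial (R ⧸ I) := Ideal.Quotient.nontrivial_iff.2 fun e => (maximalIdeal.isMaximal R).ne_top (top_le_iff.1 (e ▸ hI))
  haveI : Nontrivial (S ⧸ I.map φ) :=
    Ideal.Quotient.nontrivial_iff.2 fun e => (maximalIdeal.isMaximal S).ne_top (top_le_iff.1 (e ▸ hIS))
  haveI : IsLocalRing (R ⧸ I) := IsLocalRing.of_surjective' _ Ideal.Quotient.mk_surjective
  haveI : IsLocalRing (S ⧸ I.map φ) := IsLocalRing.of_surjective' _ Ideal.Quotient.mk_surjective
  let ι : R ⧸ I →+* S ⧸ I.map φ := Ideal.quotientMap _ φ Ideal.le_comap_map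
  have hι : ι.comp (Ideal.Quotient.mk I) = (Ideal.Quotient.mk (I.map φ)).comp φ := Ideal.quotientMap_comp_mk _
  letI := ι.toAlgebra
  haveI : Module.Flat (R ⧸ I) (S ⧸ I.map φ) := CAlg9.Node.flat_quotient_hom φ hφ I _ rfl ι hι
  haveI : IsLocalHom (Ideal.Quotient.mk (I.map φ)) :=
    IsLocalHom.of_surjective _ Ideal.Quotient.mk_surjective
  haveI : IsLocalHom (algebraMap (R ⧸ I) (S ⧸ I.map φ)) := ⟨fun a ha => by
    obtain ⟨a, rfl⟩ := Ideal.Quotient.mk_surjective a
    have h : IsUnit (Ideal.Quotient.mk (I.map φ) (φ a)) := ha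
    exact ((h.of_map).of_map).map _⟩
  rw [Gor18.gor_flat_iff (A := R ⧸ I) (B := S ⧸ I.map φ)]
  have hm : (maximalIdeal (R ⧸ I)).map (algebraMap (R ⧸ I) (S ⧸ I.map φ)) =
      ((maximalIdeal R).map φ).map (Ideal.Quotient.mk (I.map φ)) := by
    rw [show maximalIdeal (R ⧸ I) = (maximalIdeal R).map (Ideal.Quotient.mk I) from
      (IsLocalRing.map_maximalIdeal_of_surjective _ Ideal.Quotient.mk_surjective).symm,
      Ideal.map_map, Ideal.map_map, RingHom.algebraMap_toAlgebra, hι]
  exact and_congr_right fun _ => Gor18.gor_congr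
    ((Ideal.quotEquivOfEq hm).trans (DoubleQuot.quotQuotEquivQuotOfLE hIS'))

variable {X Y Z : Scheme.{u}}

theorem gorAt_iff (f : X ⟶ Y) (x : X) :
    Dual3.IsGorensteinAt f x ↔ (f.stalkMap x).hom.Flat ∧ LocCoh.IsGorensteinLocalRing
      (X.presheaf.stalk x ⧸ (maximalIdeal (Y.presheaf.stalk (f x))).map (f.stalkMap x).hom) :=
  and_congr_right fun _ => (Gor18.gor_congr (FlatMor68.FibreStalk.fibreStalkEquivAt f x)).symm

theorem isNoetherianRing_fibreQuot (f : X ⟶ Y) (x : X) [IsLocallyNoetherian (f.fiber (f x))] :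
    IsNoetherianRing (X.presheaf.stalk x ⧸ (maximalIdeal (Y.presheaf.stalk (f x))).map (f.stalkMap x).hom) :=
  isNoetherianRing_of_ringEquiv _ (FlatMor68.FibreStalk.fibreStalkEquivAt f x).symm

/-- The fibre ideal of a composite. -/
theorem fibreIdeal_comp (f : X ⟶ Y) (g : Y ⟶ Z) (x : X) :
    (maximalIdeal (Z.presheaf.stalk ((f ≫ g) x))).map ((f ≫ g).stalkMap x).hom =
      ((maximalIdeal (Z.presheaf.stalk (g (f x)))).map (g.stalkMap (f x)).hom).map (f.stalkMap x).hom := by
  rw [Scheme.Hom.stalkMap_comp, Ideal.map_map]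
  rfl

theorem flat_stalkMap_comp_iff (f : X ⟶ Y) (g : Y ⟶ Z) (x : X) :
    ((f ≫ g).stalkMap x).hom.Flat ↔ ((f.stalkMap x).hom.comp (g.stalkMap (f x)).hom).Flat := by
  rw [Scheme.Hom.stalkMap_comp]
  rfl

/-- Gorenstein morphisms at a point compose, and factors inherit the property along a flat one. -/
theorem gorAt_comp (f : X ⟶ Y) (g : Y ⟶ Z) (x : X) [IsLocallyNoetherian (g.fiber (g (f x)))]
    [IsLocallyNoetherian ((f ≫ g).fiber ((f ≫ g) x))] :
    (Dual3.IsGorensteinAt f x → Dual3.IsGorensteinAt g (f x) → Dual3.IsGorensteinAt (f ≫ g) x) ∧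
      (Dual3.IsGorensteinAt (f ≫ g) x → (f.stalkMap x).hom.Flat →
        Dual3.IsGorensteinAt f x ∧ Dual3.IsGorensteinAt g (f x)) := by
  haveI := isNoetherianRing_fibreQuot g (f x)
  haveI := isNoetherianRing_fibreQuot (f ≫ g) x
  haveI : IsLocalHom (f.stalkMap x).hom := inferInstance
  haveI : IsNoetherianRing (X.presheaf.stalk x ⧸
      ((maximalIdeal (Z.presheaf.stalk (g (f x)))).map (g.stalkMap (f x)).hom).map (f.stalkMap x).hom) :=
    isNoetherianRing_of_ringEquiv _ (Ideal.quotEquivOfEq (fibreIdeal_comp f g x))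
  have key := fun (hf : (f.stalkMap x).hom.Flat) => gor_quotient_flat_iff (f.stalkMap x).hom hf
    ((maximalIdeal (Z.presheaf.stalk (g (f x)))).map (g.stalkMap (f x)).hom) (Cyc90.map_maximalIdeal_le g (f x))
  rw [gorAt_iff, gorAt_iff, gorAt_iff, flat_stalkMap_comp_iff,
    ← Gor18.gor_congr (Ideal.quotEquivOfEq (fibreIdeal_comp f g x).symm)]
  refine ⟨fun ⟨hf, hGf⟩ ⟨hg, hGg⟩ => ⟨RingHom.Flat.comp hg hf, (key hf).2 ⟨hGg, hGf⟩⟩,
    fun ⟨hfg, hG⟩ hf => ?_⟩
  obtain ⟨h1, h2⟩ := (key hf).1 hG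
  exact ⟨⟨hf, h2⟩, flat_of_comp_local _ _ hf hfg, h1⟩

end Groth.Agent.An92.Gor
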